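import Groth.Agent.S15544
import Groth.Agent.BirNormal.Basic
import Groth.Agent.DimFormulaLib.Irreducible

/-!
Birational morphisms to normal schemes near quasi-finite points and over points of codimension at most one.
-/

set_option autoImplicit false
set_option backward.isDefEq.respectTransparency false
set_option linter.style.haveILetI false
universe u
open CategoryTheory AlgebraicGeometry TopologicalSpace Order

namespace Groth.Agent.BirQFLib

variable {X Y : Scheme.{u}}

/-- A neighbourhood over which an open chart is the whole preimage gives an isomorphism. -/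
theorem exists_isIso_of_chart (f : X ⟶ Y) (hcl : IsClosedMap f) (U : X.Opens) [IsOpenImmersion (U.ι ≫ f)] (y : Y)
    (hy : ∃ x ∈ U, f x = y) (hU : f ⁻¹' {y} ⊆ U) :
    ∃ V : Y.Opens, y ∈ V ∧ IsIso (f ∣_ V) := by
  let j := U.ι ≫ f
  let V : Y.Opens := j.opensRange ⊓ ⟨(f '' (U : Set X)ᶜ)ᶜ, (hcl _ U.2.isClosed_compl).isOpen_compl⟩
  obtain ⟨x, hxU, hxy⟩ := hy
  refine ⟨V, ⟨⟨⟨x, hxU⟩, hxy⟩, fun ⟨z, hz, hzy⟩ => hz (hU hzy)⟩, ?_⟩
  have hle : f ⁻¹ᵁ V ≤ U := fun z hz => by_contra fun h => hz.2 ⟨z, h, rfl⟩
  haveI : IsOpenImmersion ((f ∣_ V) ≫ V.ι) := by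
    rw [morphismRestrict_ι, ← Scheme.homOfLE_ι X hle, Category.assoc]
    infer_instance
  haveI : IsOpenImmersion (f ∣_ V) := IsOpenImmersion.of_comp (f ∣_ V) V.ι
  suffices h : Function.Surjective (f ∣_ V) by
    haveI : Epi (f ∣_ V).base := (TopCat.epi_iff_surjective _).2 h
    exact IsOpenImmersion.isIso _
  rintro ⟨v, hv⟩
  obtain ⟨⟨z, hzU⟩, hz⟩ := hv.1
  refine ⟨⟨z, show f z ∈ V by rw [show f z = v from hz]; exact hv⟩, ?_⟩
  apply Subtype.ext
  rw [morphismRestrict_base]
  exact hz

/-- A proper birational morphism to a normal scheme is an isomorphism near the image of a quasi-finite point. -/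
theorem exists_nhd_isIso [IsIntegral X] [IsIntegral Y] [IsLocallyNoetherian Y] (hY : Pi1.IsNormalScheme Y)
    (f : X ⟶ Y) [IsProper f] (hgen : f (genericPoint X) = genericPoint Y)
    (hbir : IsIso (f.stalkMap (genericPoint X))) (x : X) (hx : f.QuasiFiniteAt x) :
    ∃ V : Y.Opens, f x ∈ V ∧ IsIso (f ∣_ V) := by
  haveI := S15544.result hY f hgen hbir (f x)
  have huniv : ({f.asFiber x} : Set ↥(f.fiber (f x))) = Set.univ :=
    (isClopen_iff.1 hx.isClopen_singleton_asFiber).resolve_left (Set.singleton_ne_empty _)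
  obtain ⟨U, hxU, hU⟩ := BirNormal.exists_isOpenImmersion (fun y => (hY y).2) f hgen hbir x hx
  refine exists_isIso_of_chart f f.isClosedMap U (f x) ⟨x, hxU, rfl⟩ fun z hz => ?_
  have h1 : (f.fiberHomeo (f x)).symm ⟨z, hz⟩ ∈ ({f.asFiber x} : Set _) := huniv ▸ Set.mem_univ _
  have h2 : (⟨z, hz⟩ : f ⁻¹' {f x}) = ⟨x, rfl⟩ := (f.fiberHomeo (f x)).symm.injective h1
  rw [show z = x from congrArg Subtype.val h2]
  exact hxU

theorem resTrdegAt_eq_zero (f : X ⟶ Y) (x : X) (h : IsIso (f.stalkMap x)) :
    DimFormulaLib.resTrdegAt f x = 0 := by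
  letI := (f.residueFieldMap x).hom.toAlgebra
  have hs : Function.Surjective (algebraMap (Y.residueField (f x)) (X.residueField x)) := fun z => by
    obtain ⟨a, rfl⟩ := X.residue_surjective x z
    obtain ⟨b, rfl⟩ := (ConcreteCategory.bijective_of_isIso (f.stalkMap x)).2 a
    exact ⟨Y.residue _ b, congr($(Scheme.residue_residueFieldMap f x) b)⟩
  haveI : Algebra.IsAlgebraic (Y.residueField (f x)) (X.residueField x) :=
    ⟨fun z => by obtain ⟨a, rfl⟩ := hs z; exact isAlgebraic_algebraMap a⟩
  exact trdeg_eq_zero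

/-- Over a point of codimension at most one there is no specialization inside the fibre. -/
theorem eq_of_specializes_fibre [IsIntegral X] [IsIntegral Y] [IsLocallyNoetherian Y] (f : X ⟶ Y)
    [LocallyOfFiniteType f] (hgen : f (genericPoint X) = genericPoint Y)
    (h0 : DimFormulaLib.resTrdegAt f (genericPoint X) = 0) {x z : X}
    (hy : ringKrullDim (Y.presheaf.stalk (f x)) ≤ 1) (hz : f z = f x) (hs : z ⤳ x) : z = x := by
  by_contra hne
  have hd : DenseRange f := by
    intro w
    have : genericPoint Y ⤳ w := genericPoint_specializes w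
    rw [← hgen] at this
    exact closure_mono (Set.singleton_subset_iff.2 (Set.mem_range_self (genericPoint X))) this.mem_closure
  obtain ⟨a, b, d, t', n, ha, hb, -, -, -, -, hn, -, -, hab, -⟩ := DimFormulaLib.irreducible_dims f hd x
  have hn0 : n = 0 := by exact_mod_cast hn.symm.trans h0
  have hb1 : b ≤ 1 := by rw [hb] at hy; exact_mod_cast hy
  have hlt : x < z := lt_of_le_not_ge hs fun h => hne (Specializes.antisymm h hs).eq.symm
  have h1 := coheight_add_one_le hlt
  have hca : coheight x = a := by
    have := (ringKrullDim_stalk_eq_coheight x).symm.trans ha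
    exact_mod_cast this
  by_cases hzη : z = genericPoint X
  · -- the fibre contains the generic point
    have hyη : f x = genericPoint Y := by rw [← hz, hzη, hgen]
    have hb0 : b = 0 := by
      have h2 : coheight (f x) = 0 := by
        rw [coheight_eq_zero]
        intro w hw
        rw [hyη]
        exact genericPoint_specializes w
      have := (ringKrullDim_stalk_eq_coheight (f x)).symm.trans hb
      rw [h2] at this
      exact_mod_cast this.symm
    rw [hca] at h1
    have h3 : (1 : ℕ∞) ≤ a := le_trans (le_add_left le_rfl) h1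
    have : 1 ≤ a := by exact_mod_cast h3
    omega
  · have hlt2 : z < genericPoint X := lt_of_le_not_ge (genericPoint_specializes z) fun h =>
      hzη (Specializes.antisymm h (genericPoint_specializes z)).eq
    have h2 := coheight_add_one_le hlt2
    rw [hca] at h1
    have h3 : (2 : ℕ∞) ≤ a := le_trans (le_trans (by norm_num) (add_le_add_left (le_trans (le_add_left le_rfl) h2) 1)) h1
    have : 2 ≤ a := by exact_mod_cast h3
    omega

/-- The fibres over points of codimension at most one are finite. -/
theorem finite_fibre [IsIntegral X] [IsIntegral Y] [IsLocallyNoetherian Y] (f : X ⟶ Y)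
    [LocallyOfFiniteType f] [QuasiCompact f] (hgen : f (genericPoint X) = genericPoint Y)
    (h0 : DimFormulaLib.resTrdegAt f (genericPoint X) = 0) (y : Y)
    (hy : ringKrullDim (Y.presheaf.stalk y) ≤ 1) : (f ⁻¹' {y}).Finite := by
  haveI : LocallyOfFiniteType (f.fiberToSpecResidueField y) :=
    MorphismProperty.pullback_snd f (Y.fromSpecResidueField y) inferInstance
  haveI : QuasiCompact (f.fiberToSpecResidueField y) :=
    MorphismProperty.pullback_snd f (Y.fromSpecResidueField y) inferInstance
  haveI : IsLocallyNoetherian (f.fiber y) := LocallyOfFiniteType.isLocallyNoetherian (f.fiberToSpecResidueField y)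
  haveI : CompactSpace ↥(f.fiber y) := QuasiCompact.compactSpace_of_compactSpace (f.fiberToSpecResidueField y)
  haveI : IsNoetherian (f.fiber y) := {}
  haveI : T1Space ↥(f.fiber y) := by
    refine ⟨fun p => ?_⟩
    rw [← closure_eq_iff_isClosed]
    refine Set.Subset.antisymm (fun q hq => ?_) subset_closure
    have hpq : p ⤳ q := specializes_iff_mem_closure.2 hq
    have h1 := hpq.map (f.fiberι y).continuous
    have hfib : ∀ w, f (f.fiberι y w) = y := fun w => by
      have : f.fiberι y w ∈ f ⁻¹' {y} := (f.range_fiberι y).le ⟨w, rfl⟩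
      exact this
    have := eq_of_specializes_fibre f hgen h0 (by rw [hfib]; exact hy) ((hfib p).trans (hfib q).symm) h1
    exact ((f.fiberι y).isEmbedding.injective this).symm
  haveI : Finite ↥(f.fiber y) := by
    haveI := (TopologicalSpace.NoetherianSpace.finite_irreducibleComponents (α := ↥(f.fiber y))).to_subtype
    refine Finite.of_surjective (α := irreducibleComponents ↥(f.fiber y))
      (fun Z => (Z.2.1.1.some)) fun p => ?_
    refine ⟨⟨_, irreducibleComponent_mem_irreducibleComponents p⟩, ?_⟩
    have hsub : (irreducibleComponent p).Subsingleton := by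
      obtain ⟨η, hη⟩ := QuasiSober.sober (isIrreducible_irreducibleComponent (x := p)) isClosed_irreducibleComponent
      rw [← hη.def, closure_singleton]
      exact Set.subsingleton_singleton
    exact hsub (Set.Nonempty.some_mem _) mem_irreducibleComponent
  rw [← f.range_fiberι y]
  exact Set.finite_range _

/-- A proper birational morphism to a normal scheme is an isomorphism over points of codimension at most one. -/
theorem exists_nhd_isIso_of_dim_le_one [IsIntegral X] [IsIntegral Y] [IsLocallyNoetherian Y]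
    (hY : Pi1.IsNormalScheme Y) (f : X ⟶ Y) [IsProper f] (hgen : f (genericPoint X) = genericPoint Y)
    (hbir : IsIso (f.stalkMap (genericPoint X))) (y : Y) (hy : ringKrullDim (Y.presheaf.stalk y) ≤ 1) :
    ∃ V : Y.Opens, y ∈ V ∧ IsIso (f ∣_ V) := by
  haveI := S15544.result hY f hgen hbir y
  obtain ⟨p⟩ : Nonempty ↥(f.fiber y) := inferInstance
  let x := f.fiberι y p
  have hxy : f x = y := (f.range_fiberι y).le ⟨p, rfl⟩
  have hfin := finite_fibre f hgen (resTrdegAt_eq_zero f _ hbir) y hy
  rw [← hxy] at hfin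
  have hq : f.QuasiFiniteAt x := by
    rw [Scheme.Hom.quasiFiniteAt_iff_isOpen_singleton_asFiber]
    haveI : Finite ↥(f.fiber (f x)) := by
      haveI := hfin.to_subtype
      exact Finite.of_equiv _ (f.fiberHomeo (f x)).toEquiv.symm
    haveI : T1Space ↥(f.fiber (f x)) := by
      refine ⟨fun p => ?_⟩
      rw [← closure_eq_iff_isClosed]
      refine Set.Subset.antisymm (fun q hq => ?_) subset_closure
      have h1 := (specializes_iff_mem_closure.2 hq).map (f.fiberι (f x)).continuous
      have hfib : ∀ w, f (f.fiberι (f x) w) = f x := fun w => by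
        have : f.fiberι (f x) w ∈ f ⁻¹' {f x} := (f.range_fiberι (f x)).le ⟨w, rfl⟩
        exact this
      have := eq_of_specializes_fibre f hgen (resTrdegAt_eq_zero f _ hbir) (by rw [hfib, hxy]; exact hy)
        ((hfib p).trans (hfib q).symm) h1
      exact ((f.fiberι (f x)).isEmbedding.injective this).symm
    exact isOpen_discrete _
  obtain ⟨V, hV, hiso⟩ := exists_nhd_isIso hY f hgen hbir x hq
  exact ⟨V, hxy ▸ hV, hiso⟩

/-- The largest open over which a morphism is an isomorphism. -/
theorem exists_isIso_sSup (f : X ⟶ Y) :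
    ∃ V : Y.Opens, IsIso (f ∣_ V) ∧ ∀ W : Y.Opens, IsIso (f ∣_ W) → W ≤ V := by
  let S := {W : Y.Opens | IsIso (f ∣_ W)}
  refine ⟨sSup S, ?_, fun W hW => le_sSup hW⟩
  let U : S → (sSup S : Y.Opens).toScheme.Opens := fun W => (sSup S : Y.Opens).ι ⁻¹ᵁ W.1
  have hU : iSup U = ⊤ := by
    rw [eq_top_iff]
    rintro ⟨z, hz⟩ -
    obtain ⟨W, hW, hzW⟩ := Opens.mem_sSup.1 hz
    exact Opens.mem_iSup.2 ⟨⟨W, hW⟩, hzW⟩
  refine (IsZariskiLocalAtTarget.iff_of_iSup_eq_top (P := MorphismProperty.isomorphisms Scheme) U hU).2 fun W => ?_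
  have e : (sSup S : Y.Opens).ι ''ᵁ (U W) = W.1 := by
    rw [Scheme.Hom.image_preimage_eq_opensRange_inf, Scheme.Opens.opensRange_ι, inf_eq_right.2 (le_sSup W.2)]
  refine ((MorphismProperty.isomorphisms Scheme).arrow_mk_iso_iff
    (morphismRestrictRestrict f (sSup S) (U W) ≪≫ morphismRestrictEq f e)).2 W.2

end Groth.Agent.BirQFLib
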