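import Groth.Agent.BirQFLib.Basic
import Groth.Agent.ModPairLib.FiniteExt
import Mathlib.AlgebraicGeometry.ZariskisMainTheorem

/-!
Morphisms with `O_Y = f_* O_X` near quasi-finite points, and birational morphisms near a normal point.
-/

set_option autoImplicit false
set_option backward.isDefEq.respectTransparency false
set_option linter.style.haveILetI false
universe u
open CategoryTheory AlgebraicGeometry TopologicalSpace

namespace Groth.Agent.BirQFLib

variable {X Y : Scheme.{u}}

theorem isIso_fromNormalization (f : X ⟶ Y) [QuasiCompact f] [QuasiSeparated f]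
    (hO : ∀ U : Y.Opens, IsAffineOpen U → Function.Bijective (f.app U)) : IsIso f.fromNormalization := by
  refine (IsZariskiLocalAtTarget.iff_of_iSup_eq_top (P := MorphismProperty.isomorphisms Scheme)
    (fun U : Y.affineOpens => U.1) (iSup_affineOpens_eq_top Y)).2 fun U => ?_
  refine ModPairLib.isIso_restrict_of_app_bijective f.fromNormalization U.2 ?_
  letI := (f.app U.1).hom.toAlgebra
  rw [f.fromNormalization_app U.2, CommRingCat.hom_comp, RingHom.coe_comp]
  refine (ConcreteCategory.bijective_of_isIso (f.normalizationObjIso U.2).inv).comp ?_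
  refine ⟨fun a b h => (hO U.1 U.2).1 (congrArg Subtype.val h), fun z => ?_⟩
  obtain ⟨a, ha⟩ := (hO U.1 U.2).2 z.1
  exact ⟨a, Subtype.ext ha⟩

/-- Zariski's main theorem when `O_Y = f_* O_X`. -/
theorem exists_isIso_qfLocus (f : X ⟶ Y) [LocallyOfFiniteType f] [IsSeparated f] [QuasiCompact f]
    (hO : ∀ U : Y.Opens, IsAffineOpen U → Function.Bijective (f.app U)) :
    ∃ V : Y.Opens, IsIso (f ∣_ V) ∧ ∀ x : X, f x ∈ V ↔ f.QuasiFiniteAt x := by
  haveI := isIso_fromNormalization f hO
  obtain ⟨U, hU, hq⟩ := f.exists_isIso_morphismRestrict_toNormalization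
  let V : Y.Opens := inv f.fromNormalization ⁻¹ᵁ U
  have hVU : f.fromNormalization ⁻¹ᵁ V = U := by
    simp only [V, ← Scheme.Hom.comp_preimage, IsIso.hom_inv_id, Scheme.Hom.id_preimage]
  refine ⟨V, ?_, fun x => ?_⟩
  · have e : f.toNormalization ≫ f.fromNormalization = f := f.toNormalization_fromNormalization
    have h1 : IsIso ((f.toNormalization ≫ f.fromNormalization) ∣_ V) := by
      rw [morphismRestrict_comp]
      haveI : IsIso (f.toNormalization ∣_ (f.fromNormalization ⁻¹ᵁ V)) := hVU.symm ▸ hU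
      infer_instance
    rwa [e] at h1
  · have h1 : f x ∈ V ↔ f.toNormalization x ∈ U := by
      conv_rhs => rw [← hVU]
      rw [Scheme.Hom.mem_preimage (f.fromNormalization), ← Scheme.Hom.comp_apply, f.toNormalization_fromNormalization]
    rw [h1]
    exact (Set.ext_iff.1 hq x)

theorem qf_of_isolated (f : X ⟶ Y) [LocallyOfFiniteType f] {y : Y} (p : ↥(f.fiber y))
    (hp : IsOpen ({p} : Set ↥(f.fiber y))) : f (f.fiberι y p) = y ∧ f.QuasiFiniteAt (f.fiberι y p) := by
  have hxy : f (f.fiberι y p) = y := by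
    have : f.fiberι y p ∈ f ⁻¹' {y} := (f.range_fiberι y).le ⟨p, rfl⟩
    exact this
  refine ⟨hxy, ?_⟩
  have key : ∀ (z : Y) (q : ↥(f.fiber z)) (x : X), f.fiberι z q = x → IsOpen ({q} : Set ↥(f.fiber z)) →
      f x = z → f.QuasiFiniteAt x := by
    rintro z q x hq ho rfl
    rw [Scheme.Hom.quasiFiniteAt_iff_isOpen_singleton_asFiber]
    have : f.asFiber x = q := (f.fiberι (f x)).isEmbedding.injective ((f.fiberι_asFiber x).trans hq.symm)
    rwa [this]
  exact key y p _ rfl hp hxy

theorem le_one_of_not_two_le {d : WithBot ℕ∞} (h : ¬ (2 : WithBot ℕ∞) ≤ d) : d ≤ 1 := by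
  induction d using WithBot.recBotCoe with
  | bot => exact bot_le
  | coe a =>
    have h' : ¬ (2 : ℕ∞) ≤ a := fun h' => h (WithBot.coe_le_coe.2 h')
    have : a ≤ 1 := by
      cases a with
      | top => simp at h'
      | coe m => exact_mod_cast (show m ≤ 1 by by_contra hm; exact h' (by exact_mod_cast (show 2 ≤ m by omega)))
    exact WithBot.coe_le_coe.2 this

theorem denseRange_generic [IsIntegral X] [IsIntegral Y] (f : X ⟶ Y) (hgen : f (genericPoint X) = genericPoint Y) :
    DenseRange f := fun w => by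
  have : genericPoint Y ⤳ w := genericPoint_specializes w
  rw [← hgen] at this
  exact closure_mono (Set.singleton_subset_iff.2 (Set.mem_range_self (genericPoint X))) this.mem_closure

theorem isOpen_isolated_of_dim_le_one [IsIntegral X] [IsIntegral Y] [IsLocallyNoetherian Y] (f : X ⟶ Y)
    [LocallyOfFiniteType f] [QuasiCompact f] (hgen : f (genericPoint X) = genericPoint Y)
    (h0 : DimFormulaLib.resTrdegAt f (genericPoint X) = 0) (x : X)
    (hy : ringKrullDim (Y.presheaf.stalk (f x)) ≤ 1) : f.QuasiFiniteAt x := by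
  rw [Scheme.Hom.quasiFiniteAt_iff_isOpen_singleton_asFiber]
  haveI : Finite ↥(f.fiber (f x)) := by
    haveI := (finite_fibre f hgen h0 _ hy).to_subtype
    exact Finite.of_equiv _ (f.fiberHomeo (f x)).toEquiv.symm
  haveI : T1Space ↥(f.fiber (f x)) := by
    refine ⟨fun p => ?_⟩
    rw [← closure_eq_iff_isClosed]
    refine Set.Subset.antisymm (fun q hq => ?_) subset_closure
    have h1 := (specializes_iff_mem_closure.2 hq).map (f.fiberι (f x)).continuous
    have hfib : ∀ w, f (f.fiberι (f x) w) = f x := fun w => by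
      have : f.fiberι (f x) w ∈ f ⁻¹' {f x} := (f.range_fiberι (f x)).le ⟨w, rfl⟩
      exact this
    have := eq_of_specializes_fibre f hgen h0 (by rw [hfib]; exact hy) ((hfib p).trans (hfib q).symm) h1
    exact ((f.fiberι (f x)).isEmbedding.injective this).symm
  exact isOpen_discrete _

/-- An isomorphism over a nonempty open is birational. -/
theorem birational_of_isIso_restrict [IsIntegral X] [IsIntegral Y] (f : X ⟶ Y) (W : Y.Opens)
    (hW : (W : Set Y).Nonempty) (h : IsIso (f ∣_ W)) :
    f (genericPoint X) = genericPoint Y ∧ IsIso (f.stalkMap (genericPoint X)) := by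
  have hηW : genericPoint Y ∈ W := by
    obtain ⟨w, hw⟩ := hW
    exact (genericPoint_specializes w).mem_open W.2 hw
  obtain ⟨⟨x, hx⟩, hxe⟩ := (f ∣_ W).homeomorph.surjective ⟨_, hηW⟩
  have hfx : f x = genericPoint Y := by
    have := congrArg Subtype.val hxe
    rwa [Scheme.Hom.homeomorph_apply, morphismRestrict_base] at this
  have hgen : f (genericPoint X) = genericPoint Y := by
    have h1 : f (genericPoint X) ⤳ genericPoint Y := hfx ▸ (genericPoint_specializes x).map f.continuous
    exact (Inseparable.eq (Specializes.antisymm h1 (genericPoint_specializes _)))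
  refine ⟨hgen, ?_⟩
  have hη : genericPoint X ∈ f ⁻¹ᵁ W := show f (genericPoint X) ∈ W from hgen.symm ▸ hηW
  exact ((MorphismProperty.isomorphisms CommRingCat).arrow_mk_iso_iff
    (morphismRestrictStalkMap f W ⟨genericPoint X, hη⟩)).1 (inferInstanceAs (IsIso _))

/-- Near a normal point sections upstairs that are integral come from fractions downstairs. -/
theorem exists_mul_eq [IsIntegral X] [IsIntegral Y] (g : X ⟶ Y) (hgen : g (genericPoint X) = genericPoint Y)
    (hbir : IsIso (g.stalkMap (genericPoint X))) {U : Y.Opens} (hU : IsAffineOpen U) (y : Y) (hy : y ∈ U)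
    (hn : IsIntegrallyClosed (Y.presheaf.stalk y)) (b : Γ(X, g ⁻¹ᵁ U)) (hb : (g.app U).hom.IsIntegralElem b) :
    ∃ a s : Γ(Y, U), y ∈ Y.basicOpen s ∧ g.app U s * b = g.app U a := by
  haveI : Nonempty U := ⟨⟨y, hy⟩⟩
  have hηU : genericPoint Y ∈ U := (genericPoint_specializes y).mem_open U.2 hy
  have hη : genericPoint X ∈ g ⁻¹ᵁ U := show g (genericPoint X) ∈ U from hgen.symm ▸ hηU
  haveI : Nonempty (g ⁻¹ᵁ U) := ⟨⟨_, hη⟩⟩
  let Φ : Y.functionField →+* X.functionField :=
    (Y.presheaf.stalkSpecializes (specializes_of_eq hgen) ≫ g.stalkMap (genericPoint X)).hom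
  have hΦa : ∀ a : Γ(Y, U), Φ (Y.germToFunctionField U a) = X.germToFunctionField (g ⁻¹ᵁ U) (g.app U a) :=
    fun a => by
      show g.stalkMap (genericPoint X) (Y.presheaf.stalkSpecializes _ (Y.presheaf.germ U (genericPoint Y) hηU a)) = _
      rw [TopCat.Presheaf.germ_stalkSpecializes_apply, Scheme.Hom.germ_stalkMap_apply]
  have hspec : IsIso (Y.presheaf.stalkSpecializes (specializes_of_eq hgen)) :=
    ⟨Y.presheaf.stalkSpecializes (specializes_of_eq hgen.symm), by simp, by simp⟩
  have hΦ : Function.Bijective Φ := ConcreteCategory.bijective_of_isIso _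
  obtain ⟨κ, hκ⟩ := hΦ.2 (X.germToFunctionField (g ⁻¹ᵁ U) b)
  let ι : Γ(Y, U) →+* Y.presheaf.stalk y := (Y.presheaf.germ U y hy).hom
  have hι : (algebraMap (Y.presheaf.stalk y) Y.functionField).comp ι = (Y.germToFunctionField U).hom :=
    RingHom.ext fun a => TopCat.Presheaf.germ_stalkSpecializes_apply (F := Y.presheaf) hy
      (genericPoint_specializes y) a
  have hint : IsIntegral (Y.presheaf.stalk y) κ := by
    obtain ⟨P, hP, he⟩ := hb
    refine ⟨P.map ι, hP.map ι, hΦ.1 ?_⟩
    rw [Polynomial.eval₂_map, hι, map_zero, Polynomial.hom_eval₂, hκ,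
      show Φ.comp (Y.germToFunctionField U).hom =
        (X.germToFunctionField (g ⁻¹ᵁ U)).hom.comp (g.app U).hom from RingHom.ext hΦa,
      ← Polynomial.hom_eval₂, he, map_zero]
  obtain ⟨c, hc⟩ := IsIntegrallyClosed.isIntegral_iff.1 hint
  letI := Y.presheaf.algebra_section_stalk ⟨y, hy⟩
  haveI := hU.isLocalization_stalk ⟨y, hy⟩
  obtain ⟨⟨a, s⟩, has⟩ := IsLocalization.surj (hU.primeIdealOf ⟨y, hy⟩).asIdeal.primeCompl c
  refine ⟨a, s.1, (Scheme.mem_basicOpen Y s.1 y hy).2 (IsLocalization.map_units (Y.presheaf.stalk y) s), ?_⟩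
  refine X.germToFunctionField_injective (g ⁻¹ᵁ U) ?_
  rw [map_mul, ← hΦa, ← hΦa, ← hκ, ← map_mul]
  refine congrArg Φ ?_
  rw [← hc]
  show (Y.germToFunctionField U).hom s.1 * _ = (Y.germToFunctionField U).hom a
  rw [← hι]
  show algebraMap _ _ (ι s.1) * algebraMap _ _ c = algebraMap _ _ (ι a)
  rw [← map_mul, mul_comm]
  exact congrArg _ has

/-- An integral birational morphism has one-point fibres over normal points. -/
theorem fibre_subsingleton [IsIntegral X] [IsIntegral Y] (g : X ⟶ Y) [IsIntegralHom g]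
    (hgen : g (genericPoint X) = genericPoint Y) (hbir : IsIso (g.stalkMap (genericPoint X))) (y : Y)
    (hn : IsIntegrallyClosed (Y.presheaf.stalk y)) : (g ⁻¹' {y}).Subsingleton := by
  intro z₁ hz₁ z₂ hz₂
  obtain ⟨_, ⟨U, hU, rfl⟩, hy, -⟩ := Y.isBasis_affineOpens.exists_subset_of_mem_open (Set.mem_univ y) isOpen_univ
  have hU' : IsAffineOpen (g ⁻¹ᵁ U) := hU.preimage g
  have key : ∀ b : Γ(X, g ⁻¹ᵁ U), ∃ a : Γ(Y, U), ∀ z, g z = y → (z ∈ X.basicOpen b ↔ y ∈ Y.basicOpen a) :=
    fun b => by
      obtain ⟨a, s, hs, he⟩ := exists_mul_eq g hgen hbir hU y hy hn b (IsIntegralHom.isIntegral_app g U hU b)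
      refine ⟨a, fun z hz => ?_⟩
      have h1 : z ∈ X.basicOpen (g.app U s) := by
        rw [← g.preimage_basicOpen]
        exact show g z ∈ Y.basicOpen s from hz.symm ▸ hs
      have h2 : y ∈ Y.basicOpen a ↔ z ∈ X.basicOpen (g.app U a) := by
        rw [← g.preimage_basicOpen, Scheme.Hom.mem_preimage, hz]
      rw [h2, ← he, Scheme.basicOpen_mul]
      exact ⟨fun h => ⟨h1, h⟩, fun h => h.2⟩
  have hsub : ∀ z w : X, g z = y → g w = y → z ⤳ w := by
    intro z w hz hw
    refine specializes_iff_forall_open.2 fun O hO hwO => ?_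
    obtain ⟨b, hbO, hwb⟩ := hU'.exists_basicOpen_le (V := ⟨O, hO⟩) ⟨w, hwO⟩ (show g w ∈ U from hw.symm ▸ hy)
    obtain ⟨a, ha⟩ := key b
    exact hbO ((ha z hz).2 ((ha w hw).1 hwb))
  exact (Inseparable.eq (Specializes.antisymm (hsub z₁ z₂ hz₁ hz₂) (hsub z₂ z₁ hz₂ hz₁)))

/-- Proper, isomorphism over a dense open, quasi-finite over a normal point: an isomorphism near it. -/
theorem exists_nhd_isIso_of_normal_stalk [IsIntegral X] [IsIntegral Y] (f : X ⟶ Y) [IsProper f]
    (hgen : f (genericPoint X) = genericPoint Y) (hbir : IsIso (f.stalkMap (genericPoint X)))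
    (x : X) (hx : IsIntegrallyClosed (Y.presheaf.stalk (f x))) (hq : f.QuasiFiniteAt x) :
    ∃ V : Y.Opens, f x ∈ V ∧ IsIso (f ∣_ V) := by
  classical
  -- the normalization
  let t := f.toNormalization
  let g := f.fromNormalization
  have htg : t ≫ g = f := f.toNormalization_fromNormalization
  have ht : t (genericPoint X) = genericPoint f.normalization :=
    DimFormulaLib.image_genericPoint t t.denseRange
  have hgt : ∀ z, g (t z) = f z := fun z => by rw [← Scheme.Hom.comp_apply, htg]
  have hggen : g (genericPoint f.normalization) = genericPoint Y := by rw [← ht, hgt, hgen]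
  have hgbir : IsIso (g.stalkMap (genericPoint f.normalization)) := by
    have h1 : IsIso ((t ≫ g).stalkMap (genericPoint X)) := by
      have key : ∀ (h : X ⟶ Y), h = f → IsIso (h.stalkMap (genericPoint X)) := fun h e => e.symm ▸ hbir
      exact key _ htg
    rw [Scheme.Hom.stalkMap_comp] at h1
    haveI : IsIso (g.stalkMap (t (genericPoint X))) := by
      rw [ConcreteCategory.isIso_iff_bijective]
      have hb := ConcreteCategory.bijective_of_isIso (g.stalkMap (t (genericPoint X)) ≫ t.stalkMap (genericPoint X))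
      replace hb : Function.Bijective ((t.stalkMap (genericPoint X)).hom ∘ (g.stalkMap (t (genericPoint X))).hom) := hb
      have hF : IsField (f.normalization.presheaf.stalk (t (genericPoint X))) := by
        rw [ht]; exact Field.toIsField f.normalization.functionField
      letI := hF.toField
      have hi : Function.Injective (t.stalkMap (genericPoint X)).hom := RingHom.injective _
      exact ⟨hb.1.of_comp, hb.2.of_comp_left hi⟩
    exact ht ▸ this
  -- one point in the fibre
  obtain ⟨U₁, hU₁, hq₁⟩ := f.exists_isIso_morphismRestrict_toNormalization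
  have hfib : f ⁻¹' {f x} ⊆ {x} := by
    intro z hz
    have h1 : t z = t x := fibre_subsingleton g hggen hgbir (f x) hx
      (show g (t z) = f x by rw [hgt]; exact hz) (show g (t x) = f x from hgt x)
    have hxU : t x ∈ U₁ := (Set.ext_iff.1 hq₁ x).2 hq
    have hzU : t z ∈ U₁ := h1 ▸ hxU
    haveI := hU₁
    have h2 : (t ∣_ U₁) ⟨z, hzU⟩ = (t ∣_ U₁) ⟨x, hxU⟩ := by
      apply Subtype.ext
      rw [morphismRestrict_base]
      exact h1
    exact congrArg Subtype.val ((t ∣_ U₁).homeomorph.injective h2)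
  -- finite near the point
  let Q : X.Opens := ⟨_, f.isOpen_quasiFiniteAt⟩
  let V₀ : Y.Opens := ⟨(f '' (Q : Set X)ᶜ)ᶜ, (f.isClosedMap _ Q.2.isClosed_compl).isOpen_compl⟩
  have hxV₀ : f x ∈ V₀ := fun ⟨z, hz, hzx⟩ => hz (by rw [hfib hzx]; exact hq)
  haveI : IsProper (f ∣_ V₀) := MorphismProperty.of_isPullback (isPullback_morphismRestrict f V₀).flip inferInstance
  haveI : LocallyQuasiFinite (f ∣_ V₀) := by
    refine LocallyQuasiFinite.of_finite_preimage_singleton _ fun v => ?_
    have hfin : (f ⁻¹' {v.1}).Finite := by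
      haveI : CompactSpace ↥(f.fiber v.1) := by
        haveI : QuasiCompact (f.fiberToSpecResidueField v.1) :=
          MorphismProperty.pullback_snd f (Y.fromSpecResidueField v.1) inferInstance
        exact QuasiCompact.compactSpace_of_compactSpace (f.fiberToSpecResidueField v.1)
      haveI : DiscreteTopology ↥(f.fiber v.1) := by
        rw [discreteTopology_iff_isOpen_singleton]
        intro p
        have hp : f (f.fiberι v.1 p) = v.1 := (f.range_fiberι v.1).le ⟨p, rfl⟩
        have hpq : f.QuasiFiniteAt (f.fiberι v.1 p) := by_contra fun h => v.2 ⟨_, h, hp⟩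
        have key : ∀ (z : Y) (q : ↥(f.fiber z)) (w : X), f.fiberι z q = w → f w = z → f.QuasiFiniteAt w →
            IsOpen ({q} : Set ↥(f.fiber z)) := by
          rintro z q w hw rfl hwq
          rw [Scheme.Hom.quasiFiniteAt_iff_isOpen_singleton_asFiber] at hwq
          have : f.asFiber w = q := (f.fiberι (f w)).isEmbedding.injective ((f.fiberι_asFiber w).trans hw.symm)
          rwa [← this]
        exact key v.1 p _ rfl hp hpq
      haveI : Finite ↥(f.fiber v.1) := finite_of_compact_of_discrete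
      rw [← f.range_fiberι v.1]
      exact Set.finite_range _
    refine (hfin.preimage (f ⁻¹ᵁ V₀).ι.isOpenEmbedding.injective.injOn).subset fun z hz => ?_
    show f ((f ⁻¹ᵁ V₀).ι z) = v.1
    rw [← hz]
    exact (congrArg Subtype.val (congrFun (morphismRestrict_base f V₀) z)).symm
  haveI : IsFinite (f ∣_ V₀) := IsFinite.of_isProper_of_locallyQuasiFinite _
  obtain ⟨_, ⟨U, hU, rfl⟩, hxU, hUV⟩ := Y.isBasis_affineOpens.exists_subset_of_mem_open hxV₀ V₀.2
  have hfin : (f.app U).hom.Finite := ModPairLib.finite_app_of_le f hU hUV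
  have hU' : IsAffineOpen (f ⁻¹ᵁ U) := by
    have h1 : IsAffineOpen ((f ∣_ V₀) ⁻¹ᵁ (V₀.ι ⁻¹ᵁ U)) :=
      (hU.preimage_of_isOpenImmersion V₀.ι (by rw [Scheme.Opens.opensRange_ι]; exact hUV)).preimage _
    have h2 := h1.image_of_isOpenImmersion (f ⁻¹ᵁ V₀).ι
    rwa [← Scheme.Hom.comp_preimage, morphismRestrict_ι, Scheme.Hom.comp_preimage,
      Scheme.Hom.image_preimage_eq_opensRange_inf, Scheme.Opens.opensRange_ι,
      inf_eq_right.2 (f.preimage_mono hUV)] at h2
  -- spreading out
  letI := (f.app U).hom.toAlgebra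
  haveI : Module.Finite Γ(Y, U) Γ(X, f ⁻¹ᵁ U) := hfin
  obtain ⟨n, gen, hgenspan⟩ := Module.Finite.exists_fin (R := Γ(Y, U)) (M := Γ(X, f ⁻¹ᵁ U))
  choose a s hs he using fun i => exists_mul_eq f hgen hbir hU (f x) hxU hx (gen i) (hfin.to_isIntegral (gen i))
  let S := ∏ i, s i
  have hS : f x ∈ Y.basicOpen S := by
    rw [Scheme.mem_basicOpen Y _ _ hxU, map_prod]
    exact IsUnit.prod_iff.2 fun i _ => (Scheme.mem_basicOpen Y _ _ hxU).1 (hs i)
  refine ⟨Y.basicOpen S, hS, ?_⟩
  haveI : IsAffine (Y.basicOpen S : Scheme.{u}) := hU.basicOpen S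
  have hpre : f ⁻¹ᵁ Y.basicOpen S = X.basicOpen (f.app U S) := f.preimage_basicOpen S
  haveI : IsAffine (f ⁻¹ᵁ Y.basicOpen S : Scheme.{u}) := hpre ▸ hU'.basicOpen _
  have hbij : Function.Bijective (f.app (Y.basicOpen S)) := by
    haveI : Nonempty (Y.basicOpen S) := ⟨⟨_, hS⟩⟩
    have hηS : genericPoint Y ∈ Y.basicOpen S := (genericPoint_specializes _).mem_open (Y.basicOpen S).2 hS
    refine ⟨fun u v huv => Y.germToFunctionField_injective (Y.basicOpen S) ?_, fun w => ?_⟩
    · have hη : f (genericPoint X) ∈ Y.basicOpen S := hgen.symm ▸ hηS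
      have h1 := congrArg (X.presheaf.germ (f ⁻¹ᵁ Y.basicOpen S) (genericPoint X) hη) huv
      rw [← Scheme.Hom.germ_stalkMap_apply, ← Scheme.Hom.germ_stalkMap_apply] at h1
      have h2 := (ConcreteCategory.bijective_of_isIso (f.stalkMap (genericPoint X))).1 h1
      have key : ∀ z (hz : z ∈ Y.basicOpen S) (hz' : genericPoint Y ∈ Y.basicOpen S), z = genericPoint Y →
          Y.presheaf.germ _ z hz u = Y.presheaf.germ _ z hz v →
          Y.presheaf.germ _ _ hz' u = Y.presheaf.germ _ _ hz' v := by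
        rintro z hz hz' rfl h; exact h
      exact key _ hη hηS hgen h2
    · let r := (Y.presheaf.map (homOfLE (Y.basicOpen_le S)).op).hom
      let r' : Γ(X, f ⁻¹ᵁ U) →+* Γ(X, f ⁻¹ᵁ Y.basicOpen S) :=
        (X.presheaf.map (homOfLE (f.preimage_mono (Y.basicOpen_le S))).op).hom
      have hrr : ∀ c, r' (f.app U c) = f.app (Y.basicOpen S) (r c) := fun c =>
        (ConcreteCategory.congr_hom (f.naturality (homOfLE (Y.basicOpen_le S)).op) c).symm
      obtain ⟨v, hv⟩ : IsUnit (r S) := RingedSpace.isUnit_res_basicOpen _ S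
      have hmem : ∀ c, r' c ∈ (f.app (Y.basicOpen S)).hom.range := by
        intro c
        have hc : c ∈ Submodule.span Γ(Y, U) (Set.range gen) := hgenspan ▸ Submodule.mem_top
        induction hc using Submodule.span_induction with
        | mem z hz =>
          obtain ⟨i, rfl⟩ := hz
          obtain ⟨w, hw⟩ : IsUnit (r (s i)) := isUnit_of_dvd_unit (map_dvd r (Finset.dvd_prod_of_mem s (Finset.mem_univ i))) ⟨v, hv⟩
          refine ⟨w⁻¹.1 * r (a i), ?_⟩
          rw [map_mul, ← hrr, ← he i, map_mul, hrr, ← hw, ← mul_assoc, ← map_mul, Units.inv_mul, map_one, one_mul]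
        | zero => rw [map_zero]; exact zero_mem _
        | add u v _ _ hu hv => rw [map_add]; exact add_mem hu hv
        | smul c z _ hz =>
          rw [Algebra.smul_def, map_mul]
          exact mul_mem ⟨r c, (hrr c).symm⟩ hz
      have key : ∀ (O : X.Opens) (hO : O = X.basicOpen (f.app U S)) (hle : O ≤ f ⁻¹ᵁ U) (w : Γ(X, O)),
          ∃ (n : ℕ) (c : Γ(X, f ⁻¹ᵁ U)), w * X.presheaf.map (homOfLE hle).op (f.app U S) ^ n =
            X.presheaf.map (homOfLE hle).op c := by
        rintro O rfl hle w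
        haveI := hU'.isLocalization_basicOpen (f.app U S)
        obtain ⟨⟨c, d⟩, hd⟩ := IsLocalization.surj (Submonoid.powers (f.app U S)) w
        obtain ⟨n, hn⟩ := d.2
        refine ⟨n, c, Eq.trans ?_ hd⟩
        rw [← map_pow, show f.app U S ^ n = d.1 from hn]
        rfl
      obtain ⟨n, c, hd⟩ := key _ hpre (f.preimage_mono (Y.basicOpen_le S)) w
      obtain ⟨b, hb⟩ := hmem c
      refine ⟨b * (v⁻¹.1) ^ n, ?_⟩
      rw [map_mul, show (f.app (Y.basicOpen S)).hom b = r' c from hb, map_pow]
      show r' c * _ = w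
      rw [show r' c = w * r' (f.app U S) ^ n from hd.symm, hrr, mul_assoc, ← mul_pow, ← map_mul, ← hv,
        Units.mul_inv, map_one, one_pow, mul_one]
  change MorphismProperty.isomorphisms Scheme (f ∣_ Y.basicOpen S)
  rw [HasAffineProperty.iff_of_isAffine (P := MorphismProperty.isomorphisms Scheme)]
  refine ⟨inferInstance, ?_⟩
  haveI : IsIso (f.app (Y.basicOpen S)) := by rw [ConcreteCategory.isIso_iff_bijective]; exact hbij
  rw [morphismRestrict_appTop]
  have h2 : ∀ V : Y.Opens, V = Y.basicOpen S → IsIso (f.app V) := fun V hV => hV ▸ inferInstance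
  haveI : IsIso (f.app ((Y.basicOpen S).ι ''ᵁ ⊤)) := h2 _ (Y.basicOpen S).ι_image_top
  infer_instance

end Groth.Agent.BirQFLib
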